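import Cfsg.Prelude.Def_BaumannBlocks
import Cfsg.Agent.Transfer.Residual
import Cfsg.Agent.Subnormal.Basic
import Cfsg.Agent.Subnormal.BaerSuzuki
import Cfsg.Agent.Hall.StructBatch2

/-! Wielandt: the `p`-residual of a join of subnormal subgroups is the join of the `p`-residuals. -/

set_option autoImplicit false

universe u

namespace CfsgLib.ResidualJoin

open Subgroup
open scoped commutatorElement

variable {G : Type*} [Group G] {p : ℕ}

/-- `O^p(X)` inside `G`. -/
abbrev R (p : ℕ) (X : Subgroup G) : Subgroup G := Cfsg.pResidualOf p X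

theorem R_le (X : Subgroup G) : R p X ≤ X := map_subtype_le _

theorem mem_R {X : Subgroup G} {x : G} (hx : x ∈ X) (h : (orderOf x).Coprime p) : x ∈ R p X :=
  ⟨⟨x, hx⟩, Transfer.mem_pResidual_of_coprime (by rwa [orderOf_mk]), rfl⟩

theorem R_le_iff {X K : Subgroup G} :
    R p X ≤ K ↔ ∀ x ∈ X, (orderOf x).Coprime p → x ∈ K := by
  refine ⟨fun h x hx hc => h (mem_R hx hc), fun h => map_le_iff_le_comap.2 ((closure_le _).2 ?_)⟩
  intro x hx
  exact h (x : G) x.2 (by
    have hx' : (orderOf x).Coprime p := hx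
    rwa [← orderOf_coe] at hx')

theorem R_mono {X Y : Subgroup G} (h : X ≤ Y) : R p X ≤ R p Y :=
  R_le_iff.2 fun _ hx hc => mem_R (h hx) hc

theorem R_R (X : Subgroup G) : R p (R p X) = R p X :=
  le_antisymm (R_le _) (R_le_iff.2 fun _ hx hc => mem_R (mem_R hx hc) hc)

theorem le_normalizer_R (X : Subgroup G) : normalizer (X : Set G) ≤ normalizer (R p X : Set G) := by
  have key : ∀ g ∈ normalizer (X : Set G), ∀ x ∈ R p X, g * x * g⁻¹ ∈ R p X := by
    intro g hg
    suffices h : R p X ≤ (R p X).comap (MulAut.conj g).toMonoidHom from fun x hx => h hx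
    exact R_le_iff.2 fun x hx hc => mem_R ((mem_normalizer_iff.1 hg x).1 hx) (by
      rwa [orderOf_injective (MulAut.conj g).toMonoidHom (MulAut.conj g).injective])
  intro g hg
  refine mem_normalizer_iff.2 fun x => ⟨key g hg x, fun h => ?_⟩
  simpa [mul_assoc] using key g⁻¹ (inv_mem hg) _ h

theorem map_R [Finite G] [Fact p.Prime] {H : Type*} [Group H] (f : G →* H) (X : Subgroup G) :
    (R p X).map f = R p (X.map f) := by
  refine le_antisymm (map_le_iff_le_comap.2 (R_le_iff.2 fun x hx hc =>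
    mem_R (mem_map_of_mem f hx) (hc.coprime_dvd_left (orderOf_map_dvd f x)))) (R_le_iff.2 ?_)
  rintro _ ⟨x, hx, rfl⟩ hc
  obtain ⟨a, b, rfl, hab, ⟨k, hk⟩, hb, ha', hb'⟩ := Transfer.exists_pPart_mul (p := p) x
  refine ⟨b, mem_R (zpowers_le.2 hx hb') hb, ?_⟩
  have h2 : f a ∈ zpowers (f (a * b)) := by
    rw [← MonoidHom.map_zpowers]; exact mem_map_of_mem f ha'
  have h1 : orderOf (f a) ∣ 1 := by
    have h3 : (orderOf (f a)).Coprime p :=
      hc.coprime_dvd_left (by
        obtain ⟨i, hi⟩ := mem_zpowers_iff.1 h2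
        rw [← hi]; exact orderOf_dvd_of_pow_eq_one (by rw [← zpow_natCast, ← zpow_mul, mul_comm, zpow_mul, zpow_natCast, pow_orderOf_eq_one, one_zpow]))
    have h4 : orderOf (f a) ∣ p ^ k := hk ▸ orderOf_map_dvd f a
    exact (h3.pow_right k) ▸ Nat.dvd_gcd dvd_rfl h4
  rw [map_mul, orderOf_eq_one_iff.1 (Nat.dvd_one.1 h1), one_mul]

theorem map_subtype_R [Finite G] [Fact p.Prime] (H : Subgroup G) (X : Subgroup H) :
    (R p X).map H.subtype = R p (X.map H.subtype) :=
  map_R H.subtype X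

/-- A subnormal subgroup of `p`-power index contains all elements of order prime to `p`. -/
theorem mem_of_subnormal_index [Finite G] [hp : Fact p.Prime] {H : Subgroup G} (hH : H.IsSubnormal) :
    (∃ k, H.index = p ^ k) → ∀ x : G, (orderOf x).Coprime p → x ∈ H := by
  induction hH with
  | top => exact fun _ x _ => mem_top x
  | step H K hle hK hn ih =>
    rintro ⟨k, hk⟩ x hx
    have hKH := relIndex_mul_index hle
    obtain ⟨i, -, hi⟩ := (Nat.dvd_prime_pow hp.out).1 (hk ▸ Dvd.intro_left _ hKH : K.index ∣ p ^ k)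
    obtain ⟨j, -, hj⟩ := (Nat.dvd_prime_pow hp.out).1 (hk ▸ Dvd.intro _ hKH : H.relIndex K ∣ p ^ k)
    have hxK := ih ⟨i, hi⟩ x hx
    haveI := hn
    have hpow : x ^ p ^ j ∈ H := by
      have h := Subgroup.pow_index_mem (H.subgroupOf K) (⟨x, hxK⟩ : K)
      rw [show (H.subgroupOf K).index = p ^ j from hj] at h
      exact h
    obtain ⟨m, hm⟩ := exists_pow_eq_self_of_coprime (x := x) (hx.symm.pow_left j)
    rw [← hm]; exact pow_mem hpow m

/-- A subnormal `p`-subgroup normalizes `O^p` of every subnormal subgroup. -/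
theorem le_normalizer_of_pGroup [Finite G] [hp : Fact p.Prime] {P X : Subgroup G}
    (hP : P.IsSubnormal) (hPp : IsPGroup p P) (hX : X.IsSubnormal) :
    P ≤ normalizer (R p X : Set G) ∧ R p (P ⊔ X) = R p X := by
  set Z := P ⊔ X
  set P' := P.subgroupOf Z
  set X' := X.subgroupOf Z
  haveI : (Cfsg.pCore p Z).Normal := Subnormal.normal_pCore p
  have hP' : P' ≤ Cfsg.pCore p Z := Subnormal.le_pCore_of_isSubnormal hP.subgroupOf hPp.comap_subtype
  have htop : Cfsg.pCore p Z ⊔ X' = ⊤ := by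
    refine eq_top_iff.2 (le_trans (le_of_eq ?_) (sup_le_sup_right hP' X'))
    rw [← subgroupOf_sup le_sup_left le_sup_right, subgroupOf_self]
  obtain ⟨k, hk⟩ := IsPGroup.iff_card.1 (Subnormal.isPGroup_pCore (G := Z) p)
  have hidx : X'.index ∣ p ^ k := by
    have h1 := Hall.card_sup_mul_card_inf (Cfsg.pCore p Z) X'
    rw [htop, card_top, ← card_mul_index X', hk] at h1
    refine Dvd.intro (Nat.card ↥(Cfsg.pCore p Z ⊓ X')) (Nat.eq_of_mul_eq_mul_left (Nat.card_pos (α := X')) ?_)
    rw [← mul_assoc]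
    first | exact h1.trans (mul_comm _ _) | (rw [← h1]; ring) | exact h1
  obtain ⟨i, -, hi⟩ := (Nat.dvd_prime_pow hp.out).1 hidx
  have hR : R p Z = R p X := by
    refine le_antisymm (R_le_iff.2 fun x hx hc => ?_) (R_mono le_sup_right)
    exact mem_R (mem_of_subnormal_index hX.subgroupOf ⟨i, hi⟩ (⟨x, hx⟩ : Z) (by rwa [orderOf_mk])) hc
  refine ⟨?_, hR⟩
  rw [← hR]
  exact (le_sup_left : P ≤ Z).trans (le_normalizer.trans (le_normalizer_R Z))

theorem exists_minNormal [Finite G] [Nontrivial G] :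
    ∃ N : Subgroup G, N.Normal ∧ N ≠ ⊥ ∧ ∀ K : Subgroup G, K.Normal → K ≤ N → K = ⊥ ∨ K = N := by
  obtain ⟨N, ⟨hN, hN0⟩, hmin⟩ := (Set.toFinite {N : Subgroup G | N.Normal ∧ N ≠ ⊥}).exists_minimalFor
    (fun N : Subgroup G => Nat.card N) _ ⟨⊤, inferInstance, top_ne_bot⟩
  refine ⟨N, hN, hN0, fun K hK hKN => (eq_or_ne K ⊥).imp id fun hK0 => ?_⟩
  exact eq_of_le_of_card_ge hKN (hmin ⟨hK, hK0⟩ (card_le_of_le hKN))

/-- For a minimal normal `N` and generating subnormal `A`, `B`: the two intersections generate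
`N`, or both are trivial and `N` is central. -/
theorem minNormal_cases [Finite G] {A B N : Subgroup G} [hN : N.Normal] (hA : A.IsSubnormal)
    (hB : B.IsSubnormal) (hAB : A ⊔ B = ⊤)
    (hmin : ∀ K : Subgroup G, K.Normal → K ≤ N → K = ⊥ ∨ K = N) :
    (A ⊓ N) ⊔ (B ⊓ N) = N ∨ (N ≤ center G ∧ A ⊓ N = ⊥ ∧ B ⊓ N = ⊥) := by
  have hNA := Subnormal.minNormal_le_normalizer hN hmin hA
  have hNB := Subnormal.minNormal_le_normalizer hN hmin hB
  set X := (A ⊓ N) ⊔ (B ⊓ N)
  have hXN : X ≤ N := sup_le inf_le_right inf_le_right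
  have hcomm : ∀ (A : Subgroup G), N ≤ normalizer (A : Set G) → ∀ a ∈ A, ∀ n ∈ N,
      a * n * a⁻¹ * n⁻¹ ∈ A ⊓ N := by
    intro A hNA a ha n hn
    refine mem_inf.2 ⟨?_, mul_mem (hN.conj_mem n hn a) (inv_mem hn)⟩
    rw [show a * n * a⁻¹ * n⁻¹ = a * (n * a⁻¹ * n⁻¹) by group]
    exact mul_mem ha ((mem_normalizer_iff.1 (hNA hn) _).1 (inv_mem ha))
  have hcl : ∀ a, (a ∈ A ∨ a ∈ B) → X.map (MulAut.conj a).toMonoidHom ≤ X := by
    intro a ha
    rw [map_le_iff_le_comap]
    have h1 : ∀ n ∈ X, a * n * a⁻¹ * n⁻¹ ∈ X := fun n hn => by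
      rcases ha with ha | ha
      · exact mem_sup_left (hcomm A hNA a ha n (hXN hn))
      · exact mem_sup_right (hcomm B hNB a ha n (hXN hn))
    intro n hn
    show a * n * a⁻¹ ∈ X
    simpa using mul_mem (h1 n hn) hn
  have hXn : X.Normal := by
    rw [← normalizer_eq_top_iff, eq_top_iff, ← hAB]
    refine sup_le (fun a ha => ?_) fun a ha => ?_
    · exact mem_normalizer_fintype fun x hx => hcl a (Or.inl ha) ⟨x, hx, rfl⟩
    · exact mem_normalizer_fintype fun x hx => hcl a (Or.inr ha) ⟨x, hx, rfl⟩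
  rcases hmin X hXn hXN with h | h
  · refine Or.inr ⟨fun n hn => ?_, le_bot_iff.1 (h ▸ le_sup_left), le_bot_iff.1 (h ▸ le_sup_right)⟩
    rw [mem_center_iff]
    have hle : A ⊔ B ≤ centralizer ({n} : Set G) := by
      refine sup_le (fun a ha => ?_) fun a ha => ?_
      · have := hcomm A hNA a ha n hn
        rw [le_bot_iff.1 (h ▸ le_sup_left : A ⊓ N ≤ ⊥), mem_bot, mul_inv_eq_one, mul_inv_eq_iff_eq_mul] at this
        exact mem_centralizer_iff.2 (by rintro y rfl; exact this.symm)
      · have := hcomm B hNB a ha n hn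
        rw [le_bot_iff.1 (h ▸ le_sup_right : B ⊓ N ≤ ⊥), mem_bot, mul_inv_eq_one, mul_inv_eq_iff_eq_mul] at this
        exact mem_centralizer_iff.2 (by rintro y rfl; exact this.symm)
    intro g
    exact (mem_centralizer_iff.1 (hle (hAB ▸ mem_top g)) n rfl).symm
  · exact Or.inl h

/-- The coprime descent: a homomorphism into an abelian group of exponent prime to `p`. -/
theorem fixed_of_descend [Finite G] [hp : Fact p.Prime] {C : Type*} [CommGroup C] {M : Subgroup G}
    [hM : M.Normal] (lam : M →* C) (b : G) {k : ℕ} (hb : b ^ p ^ k = 1)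
    (hC : ∀ c : C, c ^ p ^ k = 1 → c = 1) {m : ℕ}
    (hm : ∀ x : M, ∀ j ≥ m, ∀ y : M, (y : G) = (fun g => ⁅b, g⁆)^[j] (x : G) → lam y = 1) :
    ∀ x : M, lam ⟨b * x * b⁻¹, hM.conj_mem x x.2 b⟩ = lam x := by
  let D : M → M := fun x => ⟨b * x * b⁻¹ * (x : G)⁻¹, mul_mem (hM.conj_mem x x.2 b) (inv_mem x.2)⟩
  have hD : ∀ (j : ℕ) (x : M), ((D^[j] x : M) : G) = (fun g => ⁅b, g⁆)^[j] (x : G) := by
    intro j
    induction j with
    | zero => intro x; rfl
    | succ j ih =>
      intro x
      rw [Function.iterate_succ_apply', Function.iterate_succ_apply', ← ih]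
      rfl
  let σ : M →* M :=
    { toFun := fun x => ⟨b * x * b⁻¹, hM.conj_mem x x.2 b⟩
      map_one' := Subtype.ext (by simp)
      map_mul' := fun x y => Subtype.ext (by simp [mul_assoc]) }
  have hhom : ∀ j, ∀ x y : M, lam (D^[j] (x * y)) = lam (D^[j] x) * lam (D^[j] y) ∧
      lam (D^[j + 1] x) = lam (D^[j] (σ x)) * (lam (D^[j] x))⁻¹ := by
    intro j
    induction j with
    | zero =>
      intro x y
      refine ⟨map_mul lam x y, ?_⟩
      show lam (D x) = lam (σ x) * (lam x)⁻¹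
      rw [← map_inv, ← map_mul]
      exact congrArg lam (Subtype.ext rfl)
    | succ j ih =>
      have hinv : ∀ x, lam (D^[j] x⁻¹) = (lam (D^[j] x))⁻¹ := fun x => by
        have h1 := (ih x x⁻¹).1
        rw [mul_inv_cancel] at h1
        have h2 : lam (D^[j] 1) = 1 := by
          have := (ih 1 1).1
          rw [one_mul] at this
          exact left_eq_mul.1 this
        rw [h2] at h1
        exact eq_inv_of_mul_eq_one_right h1.symm
      intro x y
      constructor
      · rw [(ih (x * y) 1).2, (ih x 1).2, (ih y 1).2, map_mul σ, (ih (σ x) (σ y)).1, (ih x y).1, mul_inv]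
        ac_rfl
      · rw [Function.iterate_succ_apply, show D x = σ x * x⁻¹ from Subtype.ext rfl, (ih (σ x) 1).2]
        have h3 : lam (D^[j + 1] (σ x * x⁻¹)) =
            lam (D^[j] (σ (σ x * x⁻¹))) * (lam (D^[j] (σ x * x⁻¹)))⁻¹ := (ih _ 1).2
        rw [h3, map_mul σ, map_inv σ, (ih _ _).1, (ih _ _).1, hinv, hinv, (ih x 1).2]
  have hσb : ∀ x : M, ((σ^[p ^ k]) x) = x := by
    have h : ∀ (i : ℕ) (x : M), ((σ^[i] x : M) : G) = b ^ i * x * (b ^ i)⁻¹ := by
      intro i
      induction i with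
      | zero => intro x; simp
      | succ i ih =>
        intro x
        rw [Function.iterate_succ_apply']
        show b * ((σ^[i] x : M) : G) * b⁻¹ = _
        rw [ih, pow_succ']
        group
    intro x
    exact Subtype.ext (by rw [h, hb]; simp)
  have hzero : ∀ i ≤ m, ∀ x : M, lam (D^[m - i + 1] x) = 1 := by
    intro i hi
    induction i with
    | zero => intro x; exact hm x _ (by omega) _ (hD _ x)
    | succ i ih =>
      intro x
      have ih' := ih (by omega)
      set j := m - (i + 1) + 1 with hj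
      have hj1 : m - i + 1 = j + 1 := by omega
      rw [hj1] at ih'
      have hstep : ∀ y, lam (D^[j] (σ y)) = lam (D^[j] y) := fun y =>
        mul_inv_eq_one.1 (((hhom j y 1).2).symm.trans (ih' y))
      have hpow : ∀ (t : ℕ) (y : M), lam (D^[j - 1] (σ^[t] y)) = lam (D^[j - 1] y) * lam (D^[j] y) ^ t := by
        intro t
        induction t with
        | zero => intro y; simp
        | succ t iht =>
          intro y
          rw [Function.iterate_succ_apply', pow_succ]
          have h2 := (hhom (j - 1) (σ^[t] y) 1).2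
          rw [Nat.sub_add_cancel (by omega : 1 ≤ j)] at h2
          have h3 : lam (D^[j] (σ^[t] y)) = lam (D^[j] y) := by
            clear iht h2
            induction t with
            | zero => rfl
            | succ t it => rw [Function.iterate_succ_apply' σ, hstep, it]
          rw [h3, iht] at h2
          rw [eq_mul_inv_iff_mul_eq.1 h2 |>.symm]
          ac_rfl
      have h4 := hpow (p ^ k) x
      rw [hσb] at h4
      exact hC _ (left_eq_mul.1 h4)
  intro x
  rcases Nat.eq_zero_or_pos m with rfl | hm0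
  · have h1 := hm x 1 (by omega) (D x) (hD 1 x)
    have h2 : lam (D x) = lam (σ x) * (lam x)⁻¹ := (hhom 0 x 1).2
    exact mul_inv_eq_one.1 (h2.symm.trans h1)
  · have h1 := hzero m le_rfl x
    rw [Nat.sub_self] at h1
    exact mul_inv_eq_one.1 (((hhom 0 x 1).2).symm.trans h1)

theorem iterate_mem {b : G} {B : Subgroup G} (hb : b ∈ B) (x : G) (j : ℕ) :
    (fun g => ⁅b, g⁆)^[j] x ∈ (fun K : Subgroup G => ⁅K, B⁆)^[j] ⊤ := by
  induction j with
  | zero => exact mem_top x
  | succ j ih =>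
    rw [Function.iterate_succ_apply', Function.iterate_succ_apply', commutator_comm]
    exact commutator_mem_commutator hb ih

/-- Elements of `B` have a power of `p`-power exponent in `O^p(B)`. -/
theorem pow_mem_R [Finite G] [hp : Fact p.Prime] {B : Subgroup G} {b : G} (hb : b ∈ B) :
    ∃ k, b ^ p ^ k ∈ R p B := by
  obtain ⟨a, c, rfl, hac, ⟨k, hk⟩, hc, -, hc'⟩ := Transfer.exists_pPart_mul (p := p) b
  refine ⟨k, ?_⟩
  rw [hac.mul_pow, ← hk, pow_orderOf_eq_one, one_mul]
  exact pow_mem (mem_R (zpowers_le.2 hb hc') hc) _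

/-- `O^p(B)⟨b⟩` is subnormal in `G`. -/
theorem sup_zpowers_subnormal [Finite G] [hp : Fact p.Prime] {B : Subgroup G} (hB : B.IsSubnormal)
    {b : G} (hb : b ∈ B) : (R p B ⊔ zpowers b).IsSubnormal := by
  have hle : R p B ⊔ zpowers b ≤ B := sup_le (R_le _) (zpowers_le.2 hb)
  haveI : (Cfsg.pResidual p B).Normal := Transfer.pResidual_normal
  set f := QuotientGroup.mk' (Cfsg.pResidual p B)
  haveI : Group.IsNilpotent (B ⧸ Cfsg.pResidual p B) :=
    (Transfer.isPGroup_quotient_pResidual (p := p) (G := B)).isNilpotent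
  have h := (Subnormal.isSubnormal_of_nilpotent (((R p B ⊔ zpowers b).subgroupOf B).map f)).comap f
  rw [comap_map_eq_self (by
    rw [QuotientGroup.ker_mk']
    exact fun x hx => mem_subgroupOf.2 (mem_sup_left ⟨x, hx, rfl⟩))] at h
  exact h.trans hle hB

end CfsgLib.ResidualJoin
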