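import Cfsg.Agent.ResidualJoin.Basic
import Cfsg.Agent.PReduced.Basic
import Mathlib.GroupTheory.Transfer

/-! The join theorems for `p`-residuals and Sylow subgroups of subnormal subgroups. -/

set_option autoImplicit false

universe u

namespace CfsgLib.ResidualJoin

open Subgroup

variable {p : ℕ}

theorem R_subnormal {G : Type u} [Group G] {X : Subgroup G} (hX : X.IsSubnormal) :
    (R p X).IsSubnormal :=
  IsSubnormal.step _ X (R_le X) hX
    (normal_subgroupOf_of_le_normalizer (le_normalizer.trans (le_normalizer_R X)))

theorem R_top_normal {G : Type u} [Group G] : (R p (⊤ : Subgroup G)).Normal := by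
  rw [← normalizer_eq_top_iff, eq_top_iff]
  exact le_trans (by rw [normalizer_eq_top]) (le_normalizer_R (⊤ : Subgroup G))

theorem card_prime_of_central {G : Type u} [Group G] [Finite G] {N : Subgroup G}
    (hN : N ≠ ⊥) (hc : N ≤ center G)
    (hmin : ∀ K : Subgroup G, K.Normal → K ≤ N → K = ⊥ ∨ K = N) : (Nat.card N).Prime := by
  haveI : Nontrivial N := (nontrivial_iff_ne_bot N).2 hN
  obtain ⟨r, hr, hd⟩ := Nat.exists_prime_and_dvd (n := Nat.card N) (Finite.one_lt_card (α := N)).ne'
  haveI : Fact r.Prime := ⟨hr⟩
  obtain ⟨x, hx⟩ := exists_prime_orderOf_dvd_card' r hd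
  have hn : (zpowers (x : G)).Normal := ⟨fun a ha g => by
    have hac : a ∈ center G := hc (zpowers_le.2 x.2 ha)
    rwa [mem_center_iff.1 hac g, mul_inv_cancel_right]⟩
  rcases hmin _ hn (zpowers_le.2 x.2) with h | h
  · exfalso
    rw [zpowers_eq_bot] at h
    rw [← orderOf_coe, h, orderOf_one] at hx
    exact hr.ne_one hx.symm
  · rw [← h, Nat.card_zpowers, orderOf_coe, hx]; exact hr

/-- Wielandt: `O^p(A ⊔ B) = O^p(A) ⊔ O^p(B)`, with the ambient order as induction parameter. -/
theorem residual_sup_aux [hp : Fact p.Prime] : ∀ (n : ℕ) (G : Type u) [Group G] [Finite G],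
    Nat.card G ≤ n → ∀ A B : Subgroup G, A.IsSubnormal → B.IsSubnormal →
      R p (A ⊔ B) = R p A ⊔ R p B := by
  intro n
  induction n with
  | zero => intro G _ _ h; exact absurd h (not_le.2 Nat.card_pos)
  | succ n ih =>
    intro G _ _ hn A B hA hB
    -- a `p`-element of one factor normalizes the join of the residuals
    have key : ∀ A B : Subgroup G, A.IsSubnormal → B.IsSubnormal → ∀ b ∈ B,
        (∃ k, orderOf b = p ^ k) → b ∈ normalizer ((R p A ⊔ R p B : Subgroup G) : Set G) := by
      intro A B hA hB b hb hbp
      set L := R p A ⊔ R p B with hL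
      set B0 := R p B ⊔ zpowers b with hB0
      have hB0s : B0.IsSubnormal := sup_zpowers_subnormal hB hb
      have hA0s := R_subnormal (p := p) hA
      have hRB0 : R p B0 = R p B := le_antisymm (R_mono (sup_le (R_le _) (zpowers_le.2 hb)))
        (le_trans (R_R B).ge (R_mono le_sup_left))
      have hbH : b ∈ R p A ⊔ B0 := mem_sup_right (mem_sup_right (mem_zpowers b))
      by_cases hH : R p A ⊔ B0 = ⊤
      swap
      · set H := R p A ⊔ B0 with hHdef
        have hsmall : Nat.card H ≤ n := by
          have h1 : Nat.card H < Nat.card G := by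
            refine lt_of_le_of_ne (Subgroup.card_le_card_group H) fun h => hH (card_eq_iff_eq_top H |>.1 h)
          omega
        have h1 := ih H hsmall ((R p A).subgroupOf H) (B0.subgroupOf H) hA0s.subgroupOf hB0s.subgroupOf
        have h2 := congrArg (Subgroup.map H.subtype) h1
        rw [map_subtype_R, Subgroup.map_sup, Subgroup.map_sup, map_subtype_R, map_subtype_R,
          map_subgroupOf_eq_of_le le_sup_left, map_subgroupOf_eq_of_le le_sup_right, R_R, hRB0] at h2
        rw [hL, ← h2]
        exact le_normalizer.trans (le_normalizer_R H) hbH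
      · have hLs : L.IsSubnormal := Subnormal.isSubnormal_sup hA0s (R_subnormal hB)
        by_cases hLt : L = ⊤
        · rw [hLt]; exact le_normalizer (mem_top b)
        haveI : Nontrivial G := by
          by_contra h
          rw [not_nontrivial_iff_subsingleton] at h
          exact hLt (Subsingleton.elim _ _)
        obtain ⟨N, hNn, hN0, hmin⟩ := exists_minNormal (G := G)
        haveI := hNn
        have hRL : R p L = L := le_antisymm (R_le L) (sup_le
          ((R_R A).ge.trans (R_mono le_sup_left)) ((R_R B).ge.trans (R_mono le_sup_right)))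
        have hLNn : (L ⊔ N).Normal := by
          set f := QuotientGroup.mk' N
          have hfs := QuotientGroup.mk'_surjective N
          have hsmall : Nat.card (G ⧸ N) ≤ n := by
            have h1 := card_eq_card_quotient_mul_card_subgroup N
            have h2 : 1 < Nat.card N := (N.one_lt_card_iff_ne_bot).2 hN0
            have h3 : 0 < Nat.card (G ⧸ N) := Nat.card_pos
            nlinarith
          have h1 := ih (G ⧸ N) hsmall ((R p A).map f) (B0.map f) (hA0s.map hfs) (hB0s.map hfs)
          rw [← Subgroup.map_sup, hH, ← map_R, ← map_R, ← map_R, R_R, hRB0, ← Subgroup.map_sup] at h1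
          haveI : ((R p (⊤ : Subgroup G)).map f).Normal := (R_top_normal (p := p)).map f hfs
          have h2 : L ⊔ N = ((R p (⊤ : Subgroup G)).map f).comap f := by
            rw [h1, comap_map_eq, QuotientGroup.ker_mk']
          rw [h2]; infer_instance
        by_cases hNL : N ≤ L
        · rw [sup_eq_left.2 hNL] at hLNn
          rw [normalizer_eq_top]; exact mem_top b
        by_cases hNp : IsPGroup p N
        · have h1 := (le_normalizer_of_pGroup hNn.isSubnormal hNp hLs).2
          rw [hRL] at h1
          rw [← h1, sup_comm]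
          haveI := hLNn
          exact le_trans (by rw [normalizer_eq_top]) (le_normalizer_R (L ⊔ N)) (mem_top b)
        have hRN : R p N = N := by
          have hn : (R p N).Normal := by
            rw [← normalizer_eq_top_iff, eq_top_iff]
            exact le_trans (by rw [normalizer_eq_top]) (le_normalizer_R N)
          refine (hmin _ hn (R_le N)).resolve_left fun h => hNp ?_
          rw [IsPGroup.iff_orderOf]
          intro x
          obtain ⟨a, c, hac, -, ⟨k, hk⟩, hc, -, hc'⟩ := Transfer.exists_pPart_mul (p := p) x
          have h1 : (c : G) ∈ R p N := mem_R c.2 (by rwa [orderOf_coe])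
          rw [h, mem_bot] at h1
          rw [show c = 1 from Subtype.ext h1, mul_one] at hac
          exact ⟨k, hac ▸ hk⟩
        have hNA := Subnormal.minNormal_le_normalizer hNn hmin hA0s
        have hNB := Subnormal.minNormal_le_normalizer hNn hmin hB0s
        rcases minNormal_cases hA0s hB0s hH hmin with hX | ⟨hc, hA1, hB1⟩
        · exfalso
          apply hNL
          set J := (R p A ⊓ N) ⊔ R p (B0 ⊓ N) with hJ
          have hJL : J ≤ L := sup_le (inf_le_left.trans le_sup_left)
            ((R_mono inf_le_left).trans (hRB0.le.trans le_sup_right))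
          have hJN : J ≤ N := sup_le inf_le_right ((R_le _).trans inf_le_right)
          have hinf : ∀ X : Subgroup G, N ≤ normalizer (X : Set G) →
              N ≤ normalizer ((X ⊓ N : Subgroup G) : Set G) := fun X hX =>
            (le_inf hX le_normalizer).trans inf_normalizer_le_normalizer_inf
          have hJn : N ≤ normalizer (J : Set G) := by
            intro g hg
            exact PReduced.normalizer_inf_le_normalizer_sup _ _
              ⟨hinf _ hNA hg, (hinf _ hNB).trans (le_normalizer_R _) hg⟩
          haveI : (J.subgroupOf N).Normal := normal_subgroupOf_of_le_normalizer hJn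
          set f := QuotientGroup.mk' (J.subgroupOf N)
          rw [← hRN]
          refine (R_le_iff.2 fun x hx hcx => ?_).trans hJL
          have hmem : x ∈ (R p A ⊓ N) ⊔ (B0 ⊓ N) := by rw [hX]; exact hx
          rw [← SetLike.mem_coe, coe_mul_of_left_le_normalizer_right] at hmem
          swap
          · exact inf_le_right.trans (hinf _ hNB)
          obtain ⟨a, ha, y, hy, hay⟩ := hmem
          obtain ⟨k, hk⟩ := pow_mem_R (p := p) hy
          have h1 : f ⟨x, hx⟩ = f ⟨y, (mem_inf.1 hy).2⟩ := by
            have e : (⟨x, hx⟩ : N) = ⟨a, (mem_inf.1 ha).2⟩ * ⟨y, (mem_inf.1 hy).2⟩ := Subtype.ext hay.symm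
            rw [e, map_mul, show f ⟨a, (mem_inf.1 ha).2⟩ = 1 from
              (QuotientGroup.eq_one_iff _).2 (mem_sup_left ha), one_mul]
          have h2 : f (⟨x, hx⟩ ^ p ^ k) = 1 := by
            rw [map_pow, h1, ← map_pow]
            exact (QuotientGroup.eq_one_iff _).2 (mem_sup_right hk)
          have h3 : x ^ p ^ k ∈ J := (QuotientGroup.eq_one_iff ((⟨x, hx⟩ : N) ^ p ^ k)).1 h2
          obtain ⟨j, hj⟩ := exists_pow_eq_self_of_coprime (x := x) (hcx.symm.pow_left k)
          rw [← hj]; exact pow_mem h3 j
        · obtain ⟨r, hr, hNr⟩ : ∃ r, r.Prime ∧ Nat.card N = r :=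
            ⟨_, card_prime_of_central hN0 hc hmin, rfl⟩
          haveI : Fact r.Prime := ⟨hr⟩
          have hrp : r ≠ p := fun h => hNp (IsPGroup.of_card (n := 1) (by rw [hNr, h, pow_one]))
          set M := L ⊔ N with hMdef
          haveI : M.Normal := hLNn
          have hNM : N ≤ normalizer (L : Set G) := fun z hz => centralizer_le_normalizer _
            (mem_centralizer_iff.2 fun g _ => mem_center_iff.1 (hc hz) g)
          haveI hLM : (L.subgroupOf M).Normal :=
            normal_subgroupOf_of_le_normalizer (sup_le le_normalizer hNM)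
          have hLN : L ⊓ N = ⊥ := by
            have h1 : Nat.card ↥(L ⊓ N) ∣ r := hNr ▸ card_dvd_of_le inf_le_right
            rcases (Nat.dvd_prime hr).1 h1 with h | h
            · exact card_eq_one.1 h
            · exact absurd ((eq_of_le_of_card_ge inf_le_right (by rw [hNr, h])).ge.trans inf_le_left) hNL
          have hcq : Nat.card (M ⧸ L.subgroupOf M) = r := by
            show L.relIndex M = r
            rw [hMdef, sup_comm]
            haveI : N.Normal := hNn
            have := Hall.card_sup_mul_card_inf N L
            rw [inf_comm, hLN, card_bot, mul_one, hNr] at this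
            have h2 := relIndex_mul_relIndex ⊥ L (N ⊔ L) bot_le le_sup_right
            rw [relIndex_bot_left, relIndex_bot_left, this, mul_comm r] at h2
            exact Nat.eq_of_mul_eq_mul_left Nat.card_pos h2
          haveI : IsCyclic (M ⧸ L.subgroupOf M) := isCyclic_of_prime_card hcq
          letI : CommGroup (M ⧸ L.subgroupOf M) := IsCyclic.commGroup
          set lam : M →* M ⧸ L.subgroupOf M := QuotientGroup.mk' (L.subgroupOf M)
          obtain ⟨k, hk⟩ := hbp
          have hC : ∀ (j : ℕ) (c : M ⧸ L.subgroupOf M), c ^ p ^ j = 1 → c = 1 := by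
            intro j c hc'
            have h1 : orderOf c ∣ 1 := by
              have h2 : (r).Coprime (p ^ j) := ((Nat.coprime_primes hr hp.out).2 hrp).pow_right j
              exact h2 ▸ Nat.dvd_gcd (hcq ▸ orderOf_dvd_natCard c) (orderOf_dvd_of_pow_eq_one hc')
            exact orderOf_eq_one_iff.1 (Nat.dvd_one.1 h1)
          obtain ⟨m, hm⟩ := (Hall.Struct.subnormal_iff_commutator B0).1 hB0s
          have hiter : ∀ j ≥ m, (fun K : Subgroup G => ⁅K, B0⁆)^[j] ⊤ ≤ B0 := by
            intro j hj
            induction j, hj using Nat.le_induction with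
            | base => exact hm
            | succ j _ ihj =>
              rw [Function.iterate_succ_apply']
              exact (commutator_mono ihj le_rfl).trans (commutator_le_self _)
          have hfix := fixed_of_descend (p := p) lam b (k := k) (hk ▸ pow_orderOf_eq_one b) (hC k)
            (m := m) (fun x j hj y hy => by
              have hyB : (y : G) ∈ B0 := hiter j hj (hy ▸ iterate_mem (mem_sup_right (mem_zpowers b)) _ j)
              obtain ⟨i, hi⟩ := pow_mem_R (p := p) hyB
              rw [hRB0] at hi
              refine hC i _ ?_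
              rw [← map_pow]
              exact (QuotientGroup.eq_one_iff _).2 (show ((y ^ p ^ i : M) : G) ∈ L from mem_sup_right hi))
          refine mem_normalizer_fintype fun x hx => ?_
          have h1 := hfix ⟨x, mem_sup_left hx⟩
          rw [show lam ⟨x, mem_sup_left hx⟩ = 1 from (QuotientGroup.eq_one_iff _).2 hx] at h1
          exact (QuotientGroup.eq_one_iff (N := L.subgroupOf M) _).1 h1
    -- conclusion
    set L := R p A ⊔ R p B with hL
    refine le_antisymm ?_ (sup_le (R_mono le_sup_left) (R_mono le_sup_right))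
    have hfac : ∀ A B : Subgroup G, A.IsSubnormal → B.IsSubnormal →
        B ≤ normalizer ((R p A ⊔ R p B : Subgroup G) : Set G) := by
      intro A B hA hB b hb
      obtain ⟨a, c, rfl, -, ha, hc, ha', hc'⟩ := Transfer.exists_pPart_mul (p := p) b
      exact mul_mem (key A B hA hB a (zpowers_le.2 hb ha') ha)
        (le_normalizer (mem_sup_right (mem_R (zpowers_le.2 hb hc') hc)))
    set Z := A ⊔ B
    have hZn : Z ≤ normalizer (L : Set G) :=
      sup_le (by rw [hL, sup_comm]; exact hfac B A hB hA) (hfac A B hA hB)
    haveI : (L.subgroupOf Z).Normal := normal_subgroupOf_of_le_normalizer hZn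
    set f := QuotientGroup.mk' (L.subgroupOf Z)
    have hfs := QuotientGroup.mk'_surjective (L.subgroupOf Z)
    have hsub : ∀ X : Subgroup G, X.IsSubnormal → X ≤ Z → R p X ≤ L →
        (X.subgroupOf Z).map f ≤ Cfsg.pCore p (Z ⧸ L.subgroupOf Z) := by
      intro X hX hXZ hRX
      refine Subnormal.le_pCore_of_isSubnormal (hX.subgroupOf.map hfs) ?_
      intro y
      obtain ⟨⟨x, hxZ⟩, hx, hxy⟩ := y.2
      obtain ⟨k, hk⟩ := pow_mem_R (p := p) (show x ∈ X from hx)
      refine ⟨k, Subtype.ext ?_⟩
      rw [SubmonoidClass.coe_pow, ← hxy, ← map_pow]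
      exact (QuotientGroup.eq_one_iff _).2 (hRX hk)
    have htop : Cfsg.pCore p (Z ⧸ L.subgroupOf Z) = ⊤ := by
      rw [eq_top_iff, ← map_top_of_surjective f hfs, ← subgroupOf_self Z,
        show Z.subgroupOf Z = A.subgroupOf Z ⊔ B.subgroupOf Z from subgroupOf_sup le_sup_left le_sup_right,
        Subgroup.map_sup]
      exact sup_le (hsub A hA le_sup_left le_sup_left) (hsub B hB le_sup_right le_sup_right)
    refine R_le_iff.2 fun x hx hc => ?_
    have h1 : f ⟨x, hx⟩ ∈ Cfsg.pCore p (Z ⧸ L.subgroupOf Z) := htop ▸ mem_top _
    obtain ⟨k, hk⟩ := Subnormal.isPGroup_pCore p ⟨_, h1⟩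
    have h2 : f (⟨x, hx⟩ ^ p ^ k) = 1 := by
      rw [map_pow]; exact congrArg Subtype.val hk
    have h3 : x ^ p ^ k ∈ L := (QuotientGroup.eq_one_iff ((⟨x, hx⟩ : Z) ^ p ^ k)).1 h2
    obtain ⟨j, hj⟩ := exists_pow_eq_self_of_coprime (x := x) (hc.symm.pow_left k)
    rw [← hj]; exact pow_mem h3 j

theorem residual_sup [Fact p.Prime] {G : Type u} [Group G] [Finite G] {A B : Subgroup G}
    (hA : A.IsSubnormal) (hB : B.IsSubnormal) : R p (A ⊔ B) = R p A ⊔ R p B :=
  residual_sup_aux (Nat.card G) G le_rfl A B hA hB

end CfsgLib.ResidualJoin
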