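import Cfsg.Agent.ResidualJoin.Main
import Cfsg.Agent.Hall.StructBatch
import Cfsg.Agent.CoprimeAction.Frattini
import Cfsg.Agent.PCore.Basic

/-! Wielandt: a Sylow subgroup meets a join of subnormal subgroups in the join of the
intersections. -/

set_option autoImplicit false

universe u

namespace CfsgLib.ResidualJoin

open Subgroup

variable {p : ℕ}

theorem map_sylow_inf {G : Type u} [Group G] [Finite G] [Fact p.Prime] {H : Type u} [Group H] [Finite H]
    (f : G →* H) (hf : Function.Surjective f) (T : Sylow p G) {A : Subgroup G} (hA : A.IsSubnormal) :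
    ((T.mapSurjective hf : Sylow p H) : Subgroup H) ⊓ A.map f ≤ ((T : Subgroup G) ⊓ A).map f := by
  obtain ⟨Q, hQ⟩ := Hall.Struct.sylow_subgroupOf_subnormal A hA T
  set g := f.subgroupMap A
  have hg : Function.Surjective g := f.subgroupMap_surjective A
  set P := Q.mapSurjective hg
  set U := (((T.mapSurjective hf : Sylow p H) : Subgroup H)).subgroupOf (A.map f)
  have hPU : (P : Subgroup (A.map f)) ≤ U := by
    rw [Sylow.coe_mapSurjective, hQ]
    rintro _ ⟨x, hx, rfl⟩
    exact mem_map_of_mem f (show (x : G) ∈ (T : Subgroup G) from hx)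
  have hUeq : U = P := P.3 ((T.mapSurjective hf).isPGroup'.comap_subtype) hPU
  intro y hy
  have h1 : (⟨y, (mem_inf.1 hy).2⟩ : A.map f) ∈ (P : Subgroup (A.map f)) :=
    hUeq ▸ (show (⟨y, (mem_inf.1 hy).2⟩ : A.map f) ∈ U from (mem_inf.1 hy).1)
  rw [Sylow.coe_mapSurjective, hQ] at h1
  obtain ⟨x, hx, hxy⟩ := h1
  exact ⟨x, mem_inf.2 ⟨hx, x.2⟩, congrArg Subtype.val hxy⟩

theorem sylow_inf_sup_aux [hp : Fact p.Prime] : ∀ (n : ℕ) (G : Type u) [Group G] [Finite G],
    Nat.card G ≤ n → ∀ (T : Sylow p G) (A B : Subgroup G), A.IsSubnormal → B.IsSubnormal →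
      (T : Subgroup G) ⊓ (A ⊔ B) ≤ ((T : Subgroup G) ⊓ A) ⊔ ((T : Subgroup G) ⊓ B) := by
  intro n
  induction n with
  | zero => intro G _ _ h; exact absurd h (not_le.2 Nat.card_pos)
  | succ n ih =>
    intro G _ _ hn T A B hA hB
    -- the induction hypothesis inside a proper subnormal subgroup
    have hsub : ∀ (Z A B : Subgroup G), Z.IsSubnormal → Z ≠ ⊤ → A.IsSubnormal → B.IsSubnormal →
        A ⊔ B = Z → (T : Subgroup G) ⊓ Z ≤ ((T : Subgroup G) ⊓ A) ⊔ ((T : Subgroup G) ⊓ B) := by
      intro Z A B hZ hZt hA hB hAB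
      have hsmall : Nat.card Z ≤ n := by
        have h1 : Nat.card Z < Nat.card G :=
          lt_of_le_of_ne (Subgroup.card_le_card_group Z) fun h => hZt (card_eq_iff_eq_top Z |>.1 h)
        omega
      obtain ⟨Q, hQ⟩ := Hall.Struct.sylow_subgroupOf_subnormal Z hZ T
      have h := ih Z hsmall Q (A.subgroupOf Z) (B.subgroupOf Z) hA.subgroupOf hB.subgroupOf
      intro x hx
      obtain ⟨hxT, hxZ⟩ := mem_inf.1 hx
      have h1 : (⟨x, hxZ⟩ : Z) ∈ (Q : Subgroup Z) ⊓ (A.subgroupOf Z ⊔ B.subgroupOf Z) := by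
        refine mem_inf.2 ⟨by rw [hQ]; exact hxT, ?_⟩
        rw [← subgroupOf_sup (hAB ▸ le_sup_left) (hAB ▸ le_sup_right), hAB, subgroupOf_self]
        exact mem_top _
      have h2 := mem_map_of_mem Z.subtype (h h1)
      rw [Subgroup.map_sup] at h2
      refine SetLike.le_def.1 (sup_le_sup ?_ ?_) h2
      · rintro _ ⟨y, hy, rfl⟩
        exact mem_inf.2 ⟨show (y : G) ∈ (T : Subgroup G) from (hQ ▸ (mem_inf.1 hy).1 :), (mem_inf.1 hy).2⟩
      · rintro _ ⟨y, hy, rfl⟩
        exact mem_inf.2 ⟨show (y : G) ∈ (T : Subgroup G) from (hQ ▸ (mem_inf.1 hy).1 :), (mem_inf.1 hy).2⟩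
    by_cases hAB : A ⊔ B = ⊤
    swap
    · exact hsub _ A B (Subnormal.isSubnormal_sup hA hB) hAB hA hB rfl
    rw [hAB, inf_top_eq]
    set S := ((T : Subgroup G) ⊓ A) ⊔ ((T : Subgroup G) ⊓ B)
    have hST : S ≤ (T : Subgroup G) := sup_le inf_le_left inf_le_left
    set L := R p (⊤ : Subgroup G) with hLdef
    haveI hLn : L.Normal := R_top_normal
    have hL : L = R p A ⊔ R p B := by rw [hLdef, ← hAB]; exact residual_sup hA hB
    by_cases hLt : L = ⊤
    swap
    · have h1 : (T : Subgroup G) ⊓ L ≤ S :=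
        (hsub L _ _ hLn.isSubnormal hLt (R_subnormal hA) (R_subnormal hB) hL.symm).trans
          (sup_le_sup (inf_le_inf_left _ (R_le A)) (inf_le_inf_left _ (R_le B)))
      have h2 : L ⊔ S = ⊤ := by
        rw [eq_top_iff, ← hAB]
        have hX : ∀ X : Subgroup G, X.IsSubnormal → (T : Subgroup G) ⊓ X ≤ S → X ≤ L ⊔ S := by
          intro X hX hXS
          obtain ⟨Q, hQ⟩ := Hall.Struct.sylow_subgroupOf_subnormal X hX T
          have h3 := congrArg (Subgroup.map X.subtype) (Transfer.pResidual_sup_sylow Q)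
          rw [Subgroup.map_sup, hQ, subgroupOf_map_subtype, ← MonoidHom.range_eq_map, X.range_subtype] at h3
          exact h3.ge.trans (sup_le ((R_mono le_top).trans le_sup_left) (hXS.trans le_sup_right))
        exact sup_le (hX A hA le_sup_left) (hX B hB le_sup_right)
      intro t ht
      obtain ⟨l, hl, s, hs, rfl⟩ := mem_sup_of_normal_left.1 (h2 ▸ mem_top t : t ∈ L ⊔ S)
      exact mul_mem (h1 (mem_inf.2 ⟨by simpa using mul_mem ht (inv_mem (hST hs)), hl⟩)) hs
    rcases subsingleton_or_nontrivial G with hG | hG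
    · intro x _; rw [Subsingleton.elim x 1]; exact one_mem _
    obtain ⟨N, hNn, hN0, hmin⟩ := exists_minNormal (G := G)
    haveI := hNn
    by_cases hNt : N = ⊤
    · -- a simple group
      have hsimp : ∀ X : Subgroup G, X.IsSubnormal → X = ⊥ ∨ X = ⊤ := by
        intro X hX
        rcases hX.lt_normal with h | ⟨K, hK, hXK, hK'⟩
        · exact Or.inr h
        · rcases hmin K hK (hNt ▸ le_top) with h | h
          · exact Or.inl (le_bot_iff.1 (h ▸ hXK))
          · exact absurd (h.trans hNt) hK'.ne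
      rcases hsimp A hA with h | h
      · rw [h, bot_sup_eq] at hAB
        exact le_sup_of_le_right (by rw [hAB, inf_top_eq])
      · exact le_sup_of_le_left (by rw [h, inf_top_eq])
    set f := QuotientGroup.mk' N
    have hfs := QuotientGroup.mk'_surjective N
    have hsmall : Nat.card (G ⧸ N) ≤ n := by
      have h1 := card_eq_card_quotient_mul_card_subgroup N
      have h2 : 1 < Nat.card N := (N.one_lt_card_iff_ne_bot).2 hN0
      have h3 : 0 < Nat.card (G ⧸ N) := Nat.card_pos
      nlinarith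
    have hTS : (T : Subgroup G) ≤ N ⊔ S := by
      intro t ht
      have h := ih (G ⧸ N) hsmall (T.mapSurjective hfs) (A.map f) (B.map f) (hA.map hfs) (hB.map hfs)
      have h1 : f t ∈ ((T.mapSurjective hfs : Sylow p (G ⧸ N)) : Subgroup (G ⧸ N)) ⊓ (A.map f ⊔ B.map f) := by
        refine mem_inf.2 ⟨mem_map_of_mem f ht, ?_⟩
        rw [← Subgroup.map_sup, hAB, map_top_of_surjective f hfs]
        exact mem_top _
      have h2 := sup_le_sup (map_sylow_inf f hfs T hA) (map_sylow_inf f hfs T hB) (h h1)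
      rw [← Subgroup.map_sup] at h2
      have h3 : t ∈ (S.map f).comap f := h2
      rwa [comap_map_eq, QuotientGroup.ker_mk', sup_comm] at h3
    suffices hTN : (T : Subgroup G) ⊓ N ≤ S by
      intro t ht
      obtain ⟨l, hl, s, hs, rfl⟩ := mem_sup_of_normal_left.1 (hTS ht)
      exact mul_mem (hTN (mem_inf.2 ⟨by simpa using mul_mem ht (inv_mem (hST hs)), hl⟩)) hs
    rcases minNormal_cases hA hB hAB hmin with hX | ⟨hc, hA1, hB1⟩
    · exact (hsub N (A ⊓ N) (B ⊓ N) hNn.isSubnormal hNt (hA.inf hNn.isSubnormal)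
        (hB.inf hNn.isSubnormal) hX).trans
          (sup_le_sup (inf_le_inf_left _ inf_le_left) (inf_le_inf_left _ inf_le_left))
    · have hr := card_prime_of_central hN0 hc hmin
      by_cases hrp : Nat.card N = p
      swap
      · intro x hx
        have h1 : (Nat.card N).Coprime p := (Nat.coprime_primes hr hp.out).2 hrp
        have h2 := PCore.inf_eq_bot_of_isPGroup_of_coprime T.isPGroup' h1
        rw [h2] at hx
        rw [mem_bot.1 hx]; exact one_mem _
      have hNp : IsPGroup p N := IsPGroup.of_card (n := 1) (by rw [pow_one, hrp])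
      have hNT : N ≤ (T : Subgroup G) := hNp.le_sylow_of_normal T
      by_contra hcon
      have hne : (S.subgroupOf (T : Subgroup G)) ≠ ⊤ := fun h =>
        hcon (inf_le_left.trans (subgroupOf_eq_top.1 h))
      -- a maximal subgroup of the Sylow subgroup over `S`
      obtain ⟨W, hW, hSW⟩ := (IsCoatomic.eq_top_or_exists_le_coatom _).resolve_left hne
      haveI : Group.IsNilpotent (T : Subgroup G) := T.isPGroup'.isNilpotent
      haveI hWn : W.Normal :=
        NormalizerCondition.normal_of_coatom W Group.normalizerCondition_of_isNilpotent hW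
      obtain ⟨z, hz, hz1⟩ : ∃ z ∈ N.subgroupOf (T : Subgroup G), z ∉ W := by
        by_contra h
        push Not at h
        apply hW.1
        rw [eq_top_iff]
        rintro ⟨t, ht⟩ -
        obtain ⟨l, hl, s, hs, hls⟩ := mem_sup_of_normal_left.1 (hTS ht)
        have h1 : (⟨t, ht⟩ : (T : Subgroup G)) = ⟨l, hNT hl⟩ * ⟨s, hST hs⟩ := Subtype.ext hls.symm
        rw [h1]
        exact mul_mem (h ⟨l, hNT hl⟩ hl) (hSW hs)
      have hpW : ∀ t : (T : Subgroup G), t ^ p ∈ W := by
        intro t
        haveI : Group.IsNilpotent (T : Subgroup G) := T.isPGroup'.isNilpotent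
        exact (Subgroup.mem_iInf.1 (Subgroup.mem_iInf.1 (CoprimeAction.pow_mem_frattini T.isPGroup' t) W) hW : _)
      haveI : IsMulCommutative ((T : Subgroup G) ⧸ W) :=
        Subgroup.Normal.quotient_commutative_iff_commutator_le.mpr ((CoprimeAction.commutator_le_frattini' T.isPGroup').trans (frattini_le_coatom hW))
      letI : CommGroup ((T : Subgroup G) ⧸ W) :=
        { (inferInstance : Group ((T : Subgroup G) ⧸ W)) with mul_comm := fun a b => mul_comm' a b }
      let τ := MonoidHom.transfer (H := (T : Subgroup G)) (QuotientGroup.mk' W)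
      have hτ : τ (z : G) = (QuotientGroup.mk' W z) ^ (T : Subgroup G).index := by
        have key : ∀ (k : ℕ) (g₀ : G), g₀⁻¹ * (z : G) ^ k * g₀ ∈ (T : Subgroup G) →
            g₀⁻¹ * (z : G) ^ k * g₀ = (z : G) ^ k := fun k g₀ _ => by
          have hzc : (z : G) ^ k ∈ center G := pow_mem (hc hz) k
          rw [mul_assoc, ← mem_center_iff.1 hzc g₀, inv_mul_cancel_left]
        rw [MonoidHom.transfer_eq_pow (QuotientGroup.mk' W) (z : G) key, ← map_pow]
        exact congrArg _ (Subtype.ext rfl)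
      have hτ1 : τ (z : G) = 1 := by
        have hLk : L ≤ τ.ker := R_le_iff.2 fun x _ hx => by
          rw [MonoidHom.mem_ker]
          obtain ⟨t, ht⟩ := QuotientGroup.mk'_surjective W (τ x)
          have h1 : τ x ^ p = 1 := by
            rw [← ht, ← map_pow]; exact (QuotientGroup.eq_one_iff _).2 (hpW t)
          have h2 : orderOf (τ x) ∣ 1 :=
            hx ▸ Nat.dvd_gcd (orderOf_map_dvd τ x) (orderOf_dvd_of_pow_eq_one h1)
          exact orderOf_eq_one_iff.1 (Nat.dvd_one.1 h2)
        exact hLk (hLt ▸ mem_top (z : G))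
      rw [hτ, ← map_pow] at hτ1
      have h3 : z ^ (T : Subgroup G).index ∈ W := (QuotientGroup.eq_one_iff _).1 hτ1
      have h4 : (p.Coprime (T : Subgroup G).index) := hp.out.coprime_iff_not_dvd.2 T.not_dvd_index
      have hzp : z ^ p = 1 := by
        refine Subtype.val_injective ?_
        show ((z ^ p : (T : Subgroup G)) : G) = 1
        rw [SubmonoidClass.coe_pow]
        have := pow_card_eq_one' (G := N) (x := ⟨(z : G), hz⟩)
        rw [hrp] at this
        simpa using congrArg (Subtype.val : N → G) this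
      obtain ⟨j, hj⟩ := exists_pow_eq_self_of_coprime (x := z) (n := (T : Subgroup G).index)
        (h4.symm.of_dvd_right (orderOf_dvd_of_pow_eq_one hzp))
      exact hz1 (hj ▸ pow_mem h3 j)

theorem sylow_inf_sup [Fact p.Prime] {G : Type u} [Group G] [Finite G] (T : Sylow p G)
    {A B : Subgroup G} (hA : A.IsSubnormal) (hB : B.IsSubnormal) :
    (T : Subgroup G) ⊓ (A ⊔ B) ≤ ((T : Subgroup G) ⊓ A) ⊔ ((T : Subgroup G) ⊓ B) :=
  sylow_inf_sup_aux (Nat.card G) G le_rfl T A B hA hB

end CfsgLib.ResidualJoin
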